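import Groth.Agent.DualNorm79.Norm
import Mathlib.CategoryTheory.Sites.DenseSubsite.Basic

/-!
# The norm map on dual sheaves of a finite étale morphism is an isomorphism
-/

set_option autoImplicit false

universe u

open CategoryTheory Limits AlgebraicGeometry Opposite MonObj
open Groth.Agent.Adeq2Lib

namespace Groth.Agent.DualNorm79

variable {X : Scheme.{u}} {F G : AffVan.AbT X} {Y : Over X}

/-- The value of a morphism of restricted sheaves at a test object. -/
noncomputable def val (χ : F.over Y ⟶ G.over Y) {W : Over X} (k : W ⟶ Y) : F.obj.obj (op W) →+ G.obj.obj (op W) :=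
  (χ.hom.app (op (Over.mk k))).hom

theorem val_res (χ : F.over Y ⟶ G.over Y) {W W' : Over X} (m : W' ⟶ W) (k : W ⟶ Y) (k' : W' ⟶ Y) (h : m ≫ k = k')
    (x : F.obj.obj (op W)) : AffVan.rA G m (val χ k x) = val χ k' (AffVan.rA F m x) := by
  subst h
  exact (ConcreteCategory.congr_hom (χ.hom.naturality (Over.homMk m : Over.mk (m ≫ k) ⟶ Over.mk k).op) x).symm

theorem val_ext {χ χ' : F.over Y ⟶ G.over Y} (h : ∀ (W : Over X) (k : W ⟶ Y) (x : F.obj.obj (op W)), val χ k x = val χ' k x) :
    χ = χ' :=
  Sheaf.hom_ext (NatTrans.ext (funext fun W => AddCommGrpCat.ext fun x => h W.unop.left W.unop.hom x))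

theorem val_zero {W : Over X} (k : W ⟶ Y) (x : F.obj.obj (op W)) : val (0 : F.over Y ⟶ G.over Y) k x = 0 := rfl

/-- A morphism of restricted sheaves from its values. -/
noncomputable def mkHom (v : ∀ (W : Over X), (W ⟶ Y) → (F.obj.obj (op W) →+ G.obj.obj (op W)))
    (hv : ∀ (W W' : Over X) (m : W' ⟶ W) (k : W ⟶ Y) (k' : W' ⟶ Y), m ≫ k = k' → ∀ x,
      AffVan.rA G m (v W k x) = v W' k' (AffVan.rA F m x)) : F.over Y ⟶ G.over Y :=
  ⟨{ app := fun W => AddCommGrpCat.ofHom (v W.unop.left W.unop.hom)
     naturality := fun W W' g => AddCommGrpCat.ext fun x =>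
       (hv W.unop.left W'.unop.left g.unop.left W.unop.hom W'.unop.hom (Over.w g.unop) x).symm }⟩

theorem val_mkHom (v : ∀ (W : Over X), (W ⟶ Y) → (F.obj.obj (op W) →+ G.obj.obj (op W))) (hv)
    {W : Over X} (k : W ⟶ Y) : val (mkHom (F := F) (G := G) v hv) k = v W k := rfl

variable {X' : Scheme.{u}} {f : X' ⟶ X} [IsFinite f] [Etale f]
  (F' : AffVan.AbT X') {T : Over X} (s : Splitting f T)

/-- The direct image. -/
noncomputable abbrev pushS (f : X' ⟶ X) (F' : AffVan.AbT X') : AffVan.AbT X :=
  (BigSite.pushBig Scheme.fppfPrecoverage f AddCommGrpCat.{u + 1}).obj F'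

/-- The dual sheaf. -/
noncomputable abbrev dualS {X : Scheme.{u}} (F : AffVan.AbT X) : AffVan.AbT X :=
  CGrpSh2.dualSh Scheme.fppfPrecoverage F

section Ext

variable {F'}

omit [IsFinite f] [Etale f]

theorem exists_extS (i : Fin s.n) (x : F'.obj.obj (op (s.piece i))) :
    ∃ y : F'.obj.obj (op (bc f T)), AffVan.rA F' (s.incl i) y = x ∧
      ∀ j, j ≠ i → AffVan.rA F' (s.incl j) y = 0 := by
  classical
  obtain ⟨y, hy⟩ := s.exists_glue F' (Function.update (fun j => (0 : F'.obj.obj (op (s.piece j)))) i x)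
  refine ⟨y, by rw [hy, Function.update_self], fun j hj => by rw [hy, Function.update_of_ne hj]⟩

/-- Extension by zero from a piece. -/
noncomputable def extS (i : Fin s.n) : F'.obj.obj (op (s.piece i)) →+ F'.obj.obj (op (bc f T)) :=
  AddMonoidHom.mk' (fun x => (exists_extS s i x).choose) fun x x' => s.ext_pieces F' _ _ fun j => by
    rw [map_add]
    by_cases hj : j = i
    · subst hj
      rw [(exists_extS s j (x + x')).choose_spec.1, (exists_extS s j x).choose_spec.1,
        (exists_extS s j x').choose_spec.1]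
    · rw [(exists_extS s i (x + x')).choose_spec.2 j hj, (exists_extS s i x).choose_spec.2 j hj,
        (exists_extS s i x').choose_spec.2 j hj, add_zero]

theorem incl_extS (i : Fin s.n) (x : F'.obj.obj (op (s.piece i))) :
    AffVan.rA F' (s.incl i) (extS s i x) = x := (exists_extS s i x).choose_spec.1

theorem incl_extS_ne {i j : Fin s.n} (h : j ≠ i) (x : F'.obj.obj (op (s.piece i))) :
    AffVan.rA F' (s.incl j) (extS s i x) = 0 := (exists_extS s i x).choose_spec.2 j h

theorem eq_sum_extS (y : F'.obj.obj (op (bc f T))) : y = ∑ i, extS s i (AffVan.rA F' (s.incl i) y) := by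
  refine s.ext_pieces F' _ _ fun j => ?_
  rw [map_sum, Finset.sum_eq_single j (fun i _ hi => incl_extS_ne s hi.symm _)
    (fun h => absurd (Finset.mem_univ j) h), incl_extS]

variable {U U' : Over X} (g : U ⟶ T) (g' : U' ⟶ T) (m : U' ⟶ U) (hm : m ≫ g = g')

/-- The morphism of pieces over a morphism of test objects. -/
noncomputable def pieceOver (i : Fin s.n) : (s.comap g').piece i ⟶ (s.comap g).piece i :=
  Over.homMk m.left (by
    subst hm
    show m.left ≫ s.bcσ g i ≫ pullback.snd U.hom f = s.bcσ (m ≫ g) i ≫ pullback.snd U'.hom f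
    rw [Splitting.bcσ, Splitting.bcσ, pullback.lift_snd, pullback.lift_snd, Over.comp_left, Category.assoc])

theorem pieceOver_incl (i : Fin s.n) :
    pieceOver s g g' m hm i ≫ (s.comap g).incl i = (s.comap g').incl i ≫ (Over.pullback f).map m := by
  subst hm
  refine Over.OverMorphism.ext ?_
  show m.left ≫ s.bcσ g i = s.bcσ (m ≫ g) i ≫ pullback.lift _ _ _
  apply pullback.hom_ext
  · rw [Category.assoc, Category.assoc, pullback.lift_fst, Splitting.bcσ, pullback.lift_fst, Category.comp_id,
      ← Category.assoc, Splitting.bcσ, pullback.lift_fst, Category.id_comp]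
  · rw [Category.assoc, Category.assoc, pullback.lift_snd, Splitting.bcσ, Splitting.bcσ, pullback.lift_snd,
      pullback.lift_snd, Over.comp_left, Category.assoc]

theorem res_extS (i : Fin s.n) (x : F'.obj.obj (op ((s.comap g).piece i))) :
    AffVan.rA (pushS f F') m (extS (s.comap g) i x : (pushS f F').obj.obj (op U)) =
      extS (s.comap g') i (AffVan.rA F' (pieceOver s g g' m hm i) x) := by
  refine (s.comap g').ext_pieces F' _ _ fun j => ?_
  show AffVan.rA F' ((s.comap g').incl j) (AffVan.rA F' ((Over.pullback f).map m) _) = _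
  rw [AffVan.rA_comp, ← pieceOver_incl s g g' m hm j, ← AffVan.rA_comp]
  by_cases h : j = i
  · subst h
    rw [incl_extS, incl_extS]
  · rw [incl_extS_ne (s.comap g') h]
    exact (congrArg _ (incl_extS_ne (s.comap g) h x)).trans (map_zero _)

end Ext

variable (N : CGrpSh3.pushGm Scheme.fppfPrecoverage f ⟶ GmS X) (hN : CGrpSh3.IsNormMap Scheme.fppfPrecoverage f N)

/-- The transport of units from a piece. -/
noncomputable abbrev trP (i : Fin s.n) : (GmS X').obj.obj (op (s.piece i)) →+ (GmS X).obj.obj (op T) :=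
  gmTr (T := T) (T' := s.piece i) (𝟙 T.left)

omit [IsFinite f] [Etale f] in
theorem gmTr_eq_trP (i : Fin s.n) (z : (GmS X').obj.obj (op (bc f T))) :
    gmTr (T := T) (s.σ i) z = trP s i (AffVan.rA (GmS X') (s.incl i) z) :=
  fn_ext (by
    rw [fn_gmTr, fn_gmTr, fn_res]
    show _ = Scheme.Hom.appTop (𝟙 T.left) _
    rw [Scheme.Hom.id_appTop]
    rfl)

omit [IsFinite f] [Etale f] in
include hN in
theorem val_dualNorm (χ : F'.over (bc f T) ⟶ (GmS X').over (bc f T)) {U : Over X} (g : U ⟶ T)
    (y : (pushS f F').obj.obj (op U)) :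
    val (F := pushS f F') (G := GmS X)
        ((CGrpSh3.dualNormMap Scheme.fppfPrecoverage f N F').hom.app (op T) χ) g y =
      ∑ i : Fin s.n, trP (s.comap g) i
        (val χ (s.pieceMap g i ≫ s.incl i) (AffVan.rA F' ((s.comap g).incl i) y)) := by
  show N.hom.app (op U) (val χ ((Over.pullback f).map g) y) = _
  refine ((s.comap g).norm_eq hN _).trans (Finset.sum_congr rfl fun i _ => ?_)
  refine (gmTr_eq_trP (s.comap g) i _).trans (congrArg (trP (s.comap g) i) ?_)
  exact val_res χ _ _ _ (s.pieceMap_incl g i).symm y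

/-- The test object over `T` attached to a test object over a piece. -/
noncomputable abbrev down {i : Fin s.n} {W : Over X'} (k : W ⟶ s.piece i) : Over X := Over.mk (k.left ≫ T.hom)

/-- Its structure morphism. -/
noncomputable abbrev downMap {i : Fin s.n} {W : Over X'} (k : W ⟶ s.piece i) : down s k ⟶ T := Over.homMk k.left

omit [IsFinite f] [Etale f] in
theorem toW_cond {i : Fin s.n} {W : Over X'} (k : W ⟶ s.piece i) :
    𝟙 W.left ≫ W.hom = ((s.comap (downMap s k)).piece i).hom := by
  show _ = s.bcσ (downMap s k) i ≫ pullback.snd (down s k).hom f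
  rw [Category.id_comp, Splitting.bcσ, pullback.lift_snd]
  exact (Over.w k).symm

/-- The comparison with the given test object. -/
noncomputable def toW {i : Fin s.n} {W : Over X'} (k : W ⟶ s.piece i) : (s.comap (downMap s k)).piece i ⟶ W :=
  Over.homMk (𝟙 W.left) (toW_cond s k)

include s hN in
theorem dualNorm_injective (χ : F'.over (bc f T) ⟶ (GmS X').over (bc f T))
    (h : (CGrpSh3.dualNormMap Scheme.fppfPrecoverage f N F').hom.app (op T) χ = 0) : χ = 0 := by
  refine s.ext_pieces (dualS F') χ 0 fun i => ?_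
  rw [map_zero]
  refine val_ext fun W k x => ?_
  show val χ (k ≫ s.incl i) x = 0
  let g := downMap s k
  let y := extS (s.comap g) i (AffVan.rA F' (toW s k) x)
  have h0 : val (F := pushS f F') (G := GmS X) (Y := T)
      ((CGrpSh3.dualNormMap Scheme.fppfPrecoverage f N F').hom.app (op T) χ) g y = 0 := by
    rw [h]; rfl
  rw [val_dualNorm F' s N hN χ g y, Finset.sum_eq_single i (fun j _ hj => by rw [incl_extS_ne (s.comap g) hj, map_zero, map_zero])
    (fun hi => absurd (Finset.mem_univ i) hi), incl_extS,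
    ← val_res χ (toW s k) (k ≫ s.incl i) _ (Over.OverMorphism.ext (Category.id_comp _))] at h0
  refine fn_ext ?_
  have h1 := congrArg fn h0
  rw [fn_gmTr, fn_res] at h1
  simp only [toW, Over.homMk_left, Scheme.Hom.id_appTop] at h1
  rw [fn_zero]
  exact h1.trans fn_zero

include s hN in
theorem dualNorm_surjective (ψ : (pushS f F').over T ⟶ (GmS X).over T) :
    ∃ χ : F'.over (bc f T) ⟶ (GmS X').over (bc f T),
      (CGrpSh3.dualNormMap Scheme.fppfPrecoverage f N F').hom.app (op T) χ = ψ := by
  let v : ∀ (i : Fin s.n) (W : Over X'), (W ⟶ s.piece i) → (F'.obj.obj (op W) →+ (GmS X').obj.obj (op W)) :=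
    fun i W k => (gmTr (T := W) (T' := down s k) (𝟙 W.left)).comp ((val ψ (downMap s k)).comp
      ((extS (s.comap (downMap s k)) i).comp (AffVan.rA F' (toW s k))))
  have hv : ∀ i (W W' : Over X') (m : W' ⟶ W) (k : W ⟶ s.piece i) (k' : W' ⟶ s.piece i), m ≫ k = k' → ∀ x,
      AffVan.rA (GmS X') m (v i W k x) = v i W' k' (AffVan.rA F' m x) := by
    intro i W W' m k k' hk x
    subst hk
    let u : down s (m ≫ k) ⟶ down s k := Over.homMk m.left (Category.assoc _ _ _).symm
    have hu : u ≫ downMap s k = downMap s (m ≫ k) := Over.OverMorphism.ext rfl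
    refine (gmTr_res (T := W) (U := W') (T' := down s k) (U' := down s (m ≫ k)) (𝟙 W.left) m (𝟙 W'.left) u
      ((Category.comp_id _).trans (Category.id_comp _).symm) _).trans (congrArg _ ?_)
    refine (val_res (F := pushS f F') ψ u (downMap s k) _ hu _).trans (congrArg _ ?_)
    refine (res_extS s (downMap s k) (downMap s (m ≫ k)) u hu i _).trans (congrArg _ ?_)
    show AffVan.rA F' _ (AffVan.rA F' _ x) = AffVan.rA F' _ (AffVan.rA F' _ x)
    rw [AffVan.rA_comp, AffVan.rA_comp]
    exact congrArg (fun w => AffVan.rA F' w x)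
      (Over.OverMorphism.ext ((Category.comp_id _).trans (Category.id_comp _).symm))
  obtain ⟨χ, hχ⟩ := s.exists_glue (dualS F') fun i => mkHom (F := F') (G := GmS X') (v i) (hv i)
  refine ⟨χ, val_ext fun U g y => ?_⟩
  refine (val_dualNorm F' s N hN χ g y).trans ?_
  conv_rhs => rw [eq_sum_extS (s.comap g) y]
  refine Eq.trans ?_ (map_sum (val ψ g) _ _).symm
  refine Finset.sum_congr rfl fun i _ => ?_
  let x := AffVan.rA F' ((s.comap g).incl i) y
  have hpi : val χ (s.pieceMap g i ≫ s.incl i) x = v i _ (s.pieceMap g i) x :=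
    DFunLike.congr_fun (congrArg (fun w : F'.over (s.piece i) ⟶ (GmS X').over (s.piece i) => val w (s.pieceMap g i)) (hχ i)) x
  show trP (s.comap g) i (val χ (s.pieceMap g i ≫ s.incl i) x) = val ψ g (extS (s.comap g) i x)
  rw [hpi]
  let k := s.pieceMap g i
  let u : U ⟶ down s k := Over.homMk (𝟙 _) ((Category.id_comp _).trans (Over.w g))
  have hu : u ≫ downMap s k = g := Over.OverMorphism.ext (Category.id_comp _)
  have e1 : trP (s.comap g) i (v i _ k x) =
      AffVan.rA (GmS X) u (val ψ (downMap s k) (extS (s.comap (downMap s k)) i (AffVan.rA F' (toW s k) x))) :=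
    fn_ext (by
      rw [fn_res, fn_gmTr]
      show _ = Scheme.Hom.appTop (𝟙 U.left) _
      rw [show v i _ k x = gmTr (T := (s.comap g).piece i) (T' := down s k) (𝟙 _) _ from rfl, fn_gmTr,
        Scheme.Hom.id_appTop]
      rfl)
  rw [e1]
  refine (val_res (F := pushS f F') ψ u (downMap s k) g hu _).trans (congrArg _ ?_)
  refine (res_extS s (downMap s k) g u hu i _).trans (congrArg _ ?_)
  rw [AffVan.rA_comp]
  refine (congrArg (fun w => AffVan.rA F' w x) (Over.OverMorphism.ext (Category.id_comp _))).trans (AffVan.rA_id F' x)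

include hN in
/-- The norm map on dual sheaves is an isomorphism. -/
theorem isIso_dualNormMap : IsIso (CGrpSh3.dualNormMap Scheme.fppfPrecoverage f N F') := by
  refine Functor.IsCoverDense.iso_of_restrict_iso (G := (splitObj f).ι) _ ?_
  refine (NatTrans.isIso_iff_isIso_app _).2 fun T => ?_
  obtain ⟨s⟩ := T.unop.property
  refine (ConcreteCategory.isIso_iff_bijective _).2 ⟨(injective_iff_map_eq_zero _).2 fun χ h => ?_, fun ψ => ?_⟩
  · exact dualNorm_injective F' s N hN χ h
  · exact dualNorm_surjective F' s N hN ψ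

end Groth.Agent.DualNorm79
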