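import Groth.Agent.DualNorm79.Split
import Groth.Prelude.Def_CGrpSh3
import Groth.Prelude.Def_GmPts
import Mathlib.LinearAlgebra.Matrix.ToLinearEquiv
import Mathlib.RingTheory.Norm.Basic

/-!
# The norm over test objects where the base change splits
-/

set_option autoImplicit false

universe u

open CategoryTheory Limits AlgebraicGeometry Opposite MonObj
open Groth.Agent.Adeq2Lib

namespace Groth.Agent.DualNorm79

variable {X X' : Scheme.{u}}

/-- The multiplicative group as an fppf sheaf. -/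
noncomputable abbrev GmS (X : Scheme.{u}) : AffVan.AbT X := CGrpSh2.Gm Scheme.fppfPrecoverage X

/-- The function of a section of the multiplicative group. -/
noncomputable def fn {T : Over X} (x : (GmS X).obj.obj (op T)) : Γ(T.left, ⊤) := Red.gmFn (Additive.toMul x.down)

theorem fn_ext {T : Over X} {x y : (GmS X).obj.obj (op T)} (h : fn x = fn y) : x = y :=
  ULift.ext _ _ (Additive.toMul.injective (GmPts.gmFn_injective h))

theorem fn_add {T : Over X} (x y : (GmS X).obj.obj (op T)) : fn (x + y) = fn x * fn y := GmPts.gmFn_mul _ _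

theorem fn_zero {T : Over X} : fn (0 : (GmS X).obj.obj (op T)) = 1 := GmPts.gmFn_one

theorem fn_sum {T : Over X} {I : Type*} (t : Finset I) (x : I → (GmS X).obj.obj (op T)) :
    fn (∑ i ∈ t, x i) = ∏ i ∈ t, fn (x i) := by
  classical
  induction t using Finset.induction with
  | empty => simpa using fn_zero
  | insert a t ha ih => rw [Finset.sum_insert ha, Finset.prod_insert ha, fn_add, ih]

theorem fn_res {T U : Over X} (g : U ⟶ T) (x : (GmS X).obj.obj (op T)) :
    fn (AffVan.rA (GmS X) g x) = g.left.appTop (fn x) := GmPts.gmFn_comp _ _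

/-- Transport of units along a morphism of the underlying schemes. -/
noncomputable def gmTr {T : Over X} {T' : Over X'} (e : T.left ⟶ T'.left) :
    (GmS X').obj.obj (op T') →+ (GmS X).obj.obj (op T) :=
  AddMonoidHom.mk' (fun x => ULift.up (Additive.ofMul (GmPts.ptOfUnit
    (Units.map (e.appTop.hom : Γ(T'.left, ⊤) →* Γ(T.left, ⊤)) (GmPts.unitOfPt (Additive.toMul x.down))))))
    fun x y => fn_ext (by
      rw [fn_add]
      show Red.gmFn (GmPts.ptOfUnit _) = Red.gmFn (GmPts.ptOfUnit _) * Red.gmFn (GmPts.ptOfUnit _)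
      rw [GmPts.gmFn_ptOfUnit, GmPts.gmFn_ptOfUnit, GmPts.gmFn_ptOfUnit]
      show e.appTop (fn (x + y)) = e.appTop (fn x) * e.appTop (fn y)
      rw [fn_add, map_mul])

theorem fn_gmTr {T : Over X} {T' : Over X'} (e : T.left ⟶ T'.left) (x : (GmS X').obj.obj (op T')) :
    fn (gmTr e x) = e.appTop (fn x) := GmPts.gmFn_ptOfUnit _

theorem gmTr_res {T U : Over X} {T' U' : Over X'} (e : T.left ⟶ T'.left) (g : U ⟶ T) (e' : U.left ⟶ U'.left)
    (g' : U' ⟶ T') (h : g.left ≫ e = e' ≫ g'.left) (x : (GmS X').obj.obj (op T')) :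
    AffVan.rA (GmS X) g (gmTr e x) = gmTr e' (AffVan.rA (GmS X') g' x) := by
  refine fn_ext ?_
  rw [fn_res, fn_gmTr, fn_gmTr, fn_res, ← CommRingCat.comp_apply, ← CommRingCat.comp_apply, ← Scheme.Hom.comp_appTop,
    ← Scheme.Hom.comp_appTop, h]

theorem norm_pi {R : Type u} [CommRing R] {n : ℕ} (x : Fin n → R) : Algebra.norm R x = ∏ i, x i := by
  classical
  rw [Algebra.norm_eq_matrix_det (Pi.basisFun R (Fin n))]
  have : Algebra.leftMulMatrix (Pi.basisFun R (Fin n)) x = Matrix.diagonal x := by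
    ext i j
    rw [Algebra.leftMulMatrix_eq_repr_mul, Pi.basisFun_repr, Pi.basisFun_apply]
    by_cases h : i = j
    · subst h; simp
    · simp [h]
  rw [this, Matrix.det_diagonal]

variable {f : X' ⟶ X}
  {N : CGrpSh3.pushGm Scheme.fppfPrecoverage f ⟶ GmS X} (hN : CGrpSh3.IsNormMap Scheme.fppfPrecoverage f N)

namespace Splitting

variable {T : Over X} (s : Splitting f T)

theorem bijective_functions [IsAffine T.left] :
    Function.Bijective fun (a : Γ((bc f T).left, ⊤)) (i : Fin s.n) => (s.σ i).appTop a := by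
  let R : ULift.{u} (Fin s.n) → CommRingCat.{u} := fun _ => Γ(T.left, ⊤)
  let τ : ∀ i : ULift.{u} (Fin s.n), Spec (R i) ⟶ (bc f T).left := fun i => T.left.isoSpec.inv ≫ s.σ i.down
  haveI : ∀ i, IsOpenImmersion (τ i) := fun i => by
    haveI := s.isOpenImmersion i.down
    infer_instance
  haveI : IsOpenImmersion (Sigma.desc τ) := by
    refine isOpenImmersion_sigmaDesc _ _ fun i j hij => Set.disjoint_iff_forall_ne.mpr ?_
    rintro _ ⟨a, rfl⟩ _ ⟨b, rfl⟩
    exact s.disjoint i.down j.down (fun h => hij (ULift.ext _ _ h)) _ _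
  haveI : IsIso (Sigma.desc τ) := by
    haveI : Epi (Sigma.desc τ).base := (TopCat.epi_iff_surjective _).2 fun x => by
      obtain ⟨i, a, ha⟩ := s.covers x
      refine ⟨Sigma.ι (fun i => Spec (R i)) ⟨i⟩ (T.left.isoSpec.hom a), ?_⟩
      rw [← ha, ← Scheme.Hom.comp_apply (Sigma.ι (fun i => Spec (R i)) ⟨i⟩), Sigma.ι_desc]
      show s.σ i (T.left.isoSpec.inv (T.left.isoSpec.hom a)) = _
      rw [Scheme.hom_inv_apply]
    exact IsOpenImmersion.isIso _
  haveI : IsIso (sigmaSpec R) := inferInstance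
  haveI : IsAffine (∐ fun i => Spec (R i)) := IsAffine.of_isIso (sigmaSpec R)
  haveI : IsAffine (bc f T).left := IsAffine.of_isIso (inv (Sigma.desc τ))
  let φ : Γ((bc f T).left, ⊤) →+* (∀ i, R i) := RingHom.pi fun i => (s.σ i.down).appTop.hom
  have key : sigmaSpec R ≫ Spec.map (CommRingCat.ofHom φ) = Sigma.desc τ ≫ (bc f T).left.isoSpec.hom := by
    refine Sigma.hom_ext _ _ fun i => ?_
    rw [ι_sigmaSpec_assoc, ← Spec.map_comp, Sigma.ι_desc_assoc, Category.assoc, Iso.eq_inv_comp,
      show CommRingCat.ofHom φ ≫ CommRingCat.ofHom (Pi.evalRingHom (fun i => (R i : Type u)) i) =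
        (s.σ i.down).appTop from rfl]
    exact Scheme.isoSpec_hom_naturality _
  haveI : IsIso (Spec.map (CommRingCat.ofHom φ)) := by
    have : IsIso (sigmaSpec R ≫ Spec.map (CommRingCat.ofHom φ)) := by rw [key]; infer_instance
    exact IsIso.of_isIso_comp_left (sigmaSpec R) _
  have : IsIso (CommRingCat.ofHom φ) := by
    have : IsIso (Scheme.Spec.map (CommRingCat.ofHom φ).op) := ‹IsIso (Spec.map (CommRingCat.ofHom φ))›
    have : IsIso (CommRingCat.ofHom φ).op := isIso_of_fully_faithful Scheme.Spec _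
    exact isIso_of_op _
  have hb : Function.Bijective φ := ConcreteCategory.bijective_of_isIso (CommRingCat.ofHom φ)
  refine ⟨fun a b h => hb.1 (funext fun i => congrFun h i.down), fun y => ?_⟩
  obtain ⟨a, ha⟩ := hb.2 fun i => y i.down
  exact ⟨a, funext fun i => congrFun ha ⟨i⟩⟩

include hN in
theorem norm_affine [IsAffine T.left] (t : (CGrpSh3.pushGm Scheme.fppfPrecoverage f).obj.obj (op T)) :
    fn (N.hom.app (op T) t) = ∏ i, (s.σ i).appTop (fn (X := X') (T := bc f T) t) := by
  letI : Algebra Γ(T.left, ⊤) Γ((bc f T).left, ⊤) := (pullback.fst T.hom f).appTop.hom.toAlgebra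
  let ψ : Γ((bc f T).left, ⊤) →ₐ[Γ(T.left, ⊤)] (Fin s.n → Γ(T.left, ⊤)) :=
    { toRingHom := RingHom.pi fun i => (s.σ i).appTop.hom
      commutes' := fun a => funext fun i => by
        show (s.σ i).appTop ((pullback.fst T.hom f).appTop a) = a
        rw [← CommRingCat.comp_apply, ← Scheme.Hom.comp_appTop, s.σ_fst]
        simp }
  let e := AlgEquiv.ofBijective ψ s.bijective_functions
  haveI : Module.Finite Γ(T.left, ⊤) Γ((bc f T).left, ⊤) := Module.Finite.equiv e.symm.toLinearEquiv
  haveI : Module.Free Γ(T.left, ⊤) Γ((bc f T).left, ⊤) := Module.Free.of_equiv e.symm.toLinearEquiv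
  refine (hN T (fun a => rfl) (Additive.toMul t.down)).trans ?_
  rw [← Algebra.norm_eq_of_algEquiv e, norm_pi]
  rfl

include hN in
theorem norm_eq (t : (CGrpSh3.pushGm Scheme.fppfPrecoverage f).obj.obj (op T)) :
    N.hom.app (op T) t =
      ∑ i, gmTr (X := X) (T := T) (s.σ i) (show (GmS X').obj.obj (op (bc f T)) from t) := by
  let V : T.left.affineCover.I₀ → Over X := fun j => Over.mk (T.left.affineCover.f j ≫ T.hom)
  let v : ∀ j, V j ⟶ T := fun j => Over.homMk (T.left.affineCover.f j)
  refine AffVan.eq_of_cover (GmS X) V v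
    (Precoverage.toGrothendieck_mono Scheme.zariskiPrecoverage_le_fppfPrecoverage _
      T.left.affineCover.mem_grothendieckTopology) _ _ fun j => ?_
  haveI : IsAffine (V j).left := inferInstanceAs (IsAffine (T.left.affineCover.X j))
  rw [map_sum]
  have hn : AffVan.rA (GmS X) (v j) (N.hom.app (op T) t) =
      N.hom.app (op (V j)) (((CGrpSh3.pushGm Scheme.fppfPrecoverage f).obj.map (v j).op) t) :=
    (ConcreteCategory.congr_hom (N.hom.naturality (v j).op) t).symm
  rw [hn]
  refine fn_ext (((s.comap (v j)).norm_affine hN _).trans ?_)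
  rw [fn_sum]
  refine Finset.prod_congr rfl fun i _ => ?_
  rw [fn_res, fn_gmTr, ← CommRingCat.comp_apply, ← Scheme.Hom.comp_appTop]
  show (s.bcσ (v j) i).appTop (fn (AffVan.rA (GmS X') ((Over.pullback f).map (v j)) _)) = _
  rw [fn_res, ← CommRingCat.comp_apply, ← Scheme.Hom.comp_appTop, s.bcσ_map]

end Splitting

end Groth.Agent.DualNorm79
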