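import Groth.Agent.Pi1X.EtEqualizer
import Groth.Agent.Adeq2Lib.AffineVanish
import Mathlib.AlgebraicGeometry.Morphisms.Etale
import Mathlib.AlgebraicGeometry.Morphisms.Finite

/-!
# Test objects over which a finite étale morphism splits
-/

set_option autoImplicit false

universe u

open CategoryTheory Limits AlgebraicGeometry Opposite TensorProduct
open Groth.Agent.Adeq2Lib

namespace Groth.Agent.DualNorm79

variable {X X' : Scheme.{u}} (f : X' ⟶ X)

/-- The base change of a test object. -/
noncomputable abbrev bc (T : Over X) : Over X' := (Over.pullback f).obj T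

/-- A decomposition of a base change into finitely many copies of the base. -/
structure Splitting (T : Over X) where
  /-- The number of pieces. -/
  n : ℕ
  /-- The sections. -/
  σ : Fin n → (T.left ⟶ (bc f T).left)
  σ_fst : ∀ i, σ i ≫ pullback.fst T.hom f = 𝟙 _
  isOpenImmersion : ∀ i, IsOpenImmersion (σ i)
  disjoint : ∀ i j, i ≠ j → ∀ a b, σ i a ≠ σ j b
  covers : ∀ x, ∃ i, x ∈ Set.range (σ i)

namespace Splitting

variable {f} {T : Over X} (s : Splitting f T)

/-- The piece belonging to a section. -/
noncomputable abbrev piece (i : Fin s.n) : Over X' := Over.mk (s.σ i ≫ pullback.snd T.hom f)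

/-- The inclusion of a piece. -/
noncomputable abbrev incl (i : Fin s.n) : s.piece i ⟶ bc f T := Over.homMk (s.σ i)

variable {U : Over X} (g : U ⟶ T)

/-- The pulled back section. -/
noncomputable def bcσ (i : Fin s.n) : U.left ⟶ (bc f U).left :=
  pullback.lift (𝟙 _) (g.left ≫ s.σ i ≫ pullback.snd T.hom f) (by
    rw [Category.id_comp, Category.assoc, Category.assoc, ← pullback.condition, reassoc_of% s.σ_fst i, Over.w g])

theorem bcσ_fst (i : Fin s.n) : s.bcσ g i ≫ pullback.fst U.hom f = 𝟙 _ := pullback.lift_fst _ _ _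

theorem bcσ_map (i : Fin s.n) : s.bcσ g i ≫ ((Over.pullback f).map g).left = g.left ≫ s.σ i := by
  show _ ≫ pullback.lift _ _ _ = _
  apply pullback.hom_ext
  · rw [Category.assoc, pullback.lift_fst, ← Category.assoc, bcσ, pullback.lift_fst, Category.id_comp, Category.assoc,
      s.σ_fst, Category.comp_id]
  · rw [Category.assoc, pullback.lift_snd, bcσ, pullback.lift_snd, Category.assoc]

theorem isPullback_bcσ (i : Fin s.n) :
    IsPullback (s.bcσ g i) g.left ((Over.pullback f).map g).left (s.σ i) := by
  have h1 : ((Over.pullback f).map g).left ≫ pullback.fst T.hom f = pullback.fst U.hom f ≫ g.left :=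
    pullback.lift_fst _ _ _
  have h2 : ((Over.pullback f).map g).left ≫ pullback.snd T.hom f = pullback.snd U.hom f := pullback.lift_snd _ _ _
  have hr : IsPullback (pullback.fst U.hom f) ((Over.pullback f).map g).left g.left (pullback.fst T.hom f) := by
    refine (IsPullback.of_right ?_ h1 (IsPullback.of_hasPullback T.hom f).flip).flip
    rw [h2, Over.w g]
    exact (IsPullback.of_hasPullback U.hom f).flip
  refine IsPullback.of_right ?_ (s.bcσ_map g i) hr
  rw [bcσ_fst, s.σ_fst]
  exact IsPullback.of_horiz_isIso ⟨by rw [Category.id_comp, Category.comp_id]⟩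

/-- Splittings pull back. -/
noncomputable def comap : Splitting f U where
  n := s.n
  σ := s.bcσ g
  σ_fst := s.bcσ_fst g
  isOpenImmersion i :=
    haveI := s.isOpenImmersion i
    MorphismProperty.of_isPullback (s.isPullback_bcσ g i).flip inferInstance
  disjoint i j hij a b h := by
    refine s.disjoint i j hij (g.left a) (g.left b) ?_
    rw [← Scheme.Hom.comp_apply, ← Scheme.Hom.comp_apply, ← s.bcσ_map g i, ← s.bcσ_map g j,
      Scheme.Hom.comp_apply, Scheme.Hom.comp_apply, h]
  covers x := by
    obtain ⟨i, a, ha⟩ := s.covers (((Over.pullback f).map g).left x)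
    have hp := s.isPullback_bcσ g i
    obtain ⟨z, hz, -⟩ := Scheme.Pullback.exists_preimage_pullback (f := ((Over.pullback f).map g).left) (g := s.σ i) x a ha.symm
    refine ⟨i, hp.isoPullback.inv z, ?_⟩
    rw [← Scheme.Hom.comp_apply, hp.isoPullback_inv_fst]
    exact hz

/-- The morphism between corresponding pieces. -/
noncomputable def pieceMap (i : Fin s.n) : (s.comap g).piece i ⟶ s.piece i :=
  Over.homMk g.left (by
    show g.left ≫ s.σ i ≫ pullback.snd T.hom f = s.bcσ g i ≫ pullback.snd U.hom f
    rw [bcσ, pullback.lift_snd])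

theorem pieceMap_incl (i : Fin s.n) :
    s.pieceMap g i ≫ s.incl i = (s.comap g).incl i ≫ (Over.pullback f).map g :=
  Over.OverMorphism.ext (s.bcσ_map g i).symm

theorem piece_mem :
    Sieve.generate (Presieve.ofArrows (fun i => (s.piece i).left) fun i => (s.incl i).left) ∈
      Scheme.fppfPrecoverage.toGrothendieck (bc f T).left := by
  refine Precoverage.generate_mem_toGrothendieck (J := Scheme.precoverage (@Flat ⊓ @LocallyOfFinitePresentation)) ?_
  rw [Scheme.ofArrows_mem_precoverage_iff]
  refine ⟨fun x => s.covers x, fun i => ?_⟩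
  haveI : IsOpenImmersion (s.incl i).left := s.isOpenImmersion i
  exact ⟨inferInstance, inferInstance⟩

theorem ext_pieces (F : AffVan.AbT X') (x y : F.obj.obj (op (bc f T)))
    (h : ∀ i, AffVan.rA F (s.incl i) x = AffVan.rA F (s.incl i) y) : x = y :=
  AffVan.eq_of_cover F s.piece s.incl s.piece_mem x y h

theorem exists_glue (F : AffVan.AbT X') (y : ∀ i, F.obj.obj (op (s.piece i))) :
    ∃ x, ∀ i, AffVan.rA F (s.incl i) x = y i :=
  AffVan.glueA F s.piece s.incl s.piece_mem y fun i j W p q hpq => by
    have h := congrArg Over.Hom.left hpq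
    rw [Over.comp_left, Over.comp_left] at h
    by_cases hij : i = j
    · subst hij
      haveI : IsOpenImmersion (s.incl i).left := s.isOpenImmersion i
      rw [cancel_mono] at h
      rw [Over.OverMorphism.ext h]
    · haveI : IsEmpty W.left := ⟨fun w => s.disjoint i j hij (p.left w) (q.left w)
        (congrArg (fun m : W.left ⟶ (bc f T).left => m w) h)⟩
      exact AffVan.eq_of_isEmpty F _ _

end Splitting

variable [IsFinite f] [Etale f]

/-- Every affine test object has an fppf covering by test objects over which the base change splits. -/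
theorem exists_splitting_nhd (T : Over X) [IsAffine T.left] (p : T.left) :
    ∃ (U : Over X) (g : U ⟶ T), Flat g.left ∧ LocallyOfFinitePresentation g.left ∧ IsAffine U.left ∧
      p ∈ Set.range g.left ∧ Nonempty (Splitting f U) := by
  haveI : IsFinite (pullback.fst T.hom f) := inferInstance
  haveI : Etale (pullback.fst T.hom f) := inferInstance
  haveI : IsAffine (bc f T).left := isAffine_of_isAffineHom (pullback.fst T.hom f)
  haveI : IsAffine (pullback T.hom f) := ‹IsAffine (bc f T).left›
  let φ := (pullback.fst T.hom f).appTop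
  letI : Algebra Γ(T.left, ⊤) Γ(pullback T.hom f, ⊤) := φ.hom.toAlgebra
  haveI : Module.Finite Γ(T.left, ⊤) Γ(pullback T.hom f, ⊤) :=
    RingHom.finite_algebraMap.1 (pullback.fst T.hom f).finite_appTop
  haveI : Algebra.Etale Γ(T.left, ⊤) Γ(pullback T.hom f, ⊤) :=
    RingHom.etale_algebraMap.1 ((HasRingHomProperty.iff_of_isAffine (P := @Etale)).1 inferInstance)
  obtain ⟨D, _, _, hD, ⟨q, hq⟩, n, ⟨β⟩⟩ := Pi1X.exists_split _ Γ(T.left, ⊤) Γ(pullback T.hom f, ⊤)
    (T.left.isoSpec.hom p) rfl
  let g₀ : Spec (CommRingCat.of D) ⟶ T.left :=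
    Spec.map (CommRingCat.ofHom (algebraMap Γ(T.left, ⊤) D)) ≫ T.left.isoSpec.inv
  let U : Over X := Over.mk (g₀ ≫ T.hom)
  haveI : Etale g₀ := by
    haveI : Etale (Spec.map (CommRingCat.ofHom (algebraMap Γ(T.left, ⊤) D))) :=
      (HasRingHomProperty.Spec_iff (P := @Etale)).2 (RingHom.etale_algebraMap.2 hD)
    infer_instance
  refine ⟨U, Over.homMk g₀ rfl, inferInstanceAs (Flat g₀), inferInstanceAs (LocallyOfFinitePresentation g₀),
    inferInstanceAs (IsAffine (Spec (CommRingCat.of D))), ⟨q, ?_⟩, ?_⟩
  · show g₀ q = p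
    show T.left.isoSpec.inv (PrimeSpectrum.comap (algebraMap Γ(T.left, ⊤) D) q) = p
    rw [hq, Scheme.hom_inv_apply]
  let C := D ⊗[Γ(T.left, ⊤)] Γ(pullback T.hom f, ⊤)
  have hsq : IsPullback (Spec.map (CommRingCat.ofHom (Algebra.TensorProduct.includeLeftRingHom : D →+* C)))
      (Spec.map (CommRingCat.ofHom (Algebra.TensorProduct.includeRight.toRingHom : Γ(pullback T.hom f, ⊤) →+* C)))
      (Spec.map (CommRingCat.ofHom (algebraMap Γ(T.left, ⊤) D))) (Spec.map φ) :=
    isPullback_SpecMap_of_isPushout _ _ _ _ (CommRingCat.isPushout_tensorProduct Γ(T.left, ⊤) D Γ(pullback T.hom f, ⊤))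
  have hnat : (pullback T.hom f).isoSpec.hom ≫ Spec.map φ = pullback.fst T.hom f ≫ T.left.isoSpec.hom :=
    Scheme.isoSpec_hom_naturality _
  have hmid : IsPullback (pullback T.hom f).isoSpec.inv (Spec.map φ) (pullback.fst T.hom f) T.left.isoSpec.inv := by
    refine IsPullback.of_horiz_isIso ⟨?_⟩
    rw [Iso.eq_comp_inv, Category.assoc, ← hnat, Iso.inv_hom_id_assoc]
  have hall := (hsq.flip.paste_horiz hmid).paste_horiz (IsPullback.of_hasPullback T.hom f).flip
  let e := hall.flip.isoPullback
  have he : e.hom ≫ pullback.fst U.hom f = Spec.map (CommRingCat.ofHom (Algebra.TensorProduct.includeLeftRingHom : D →+* C)) :=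
    hall.flip.isoPullback_hom_fst
  let εc := RingEquiv.toCommRingCatIso β.toRingEquiv
  let σ : Fin n → (Spec (CommRingCat.of D) ⟶ (bc f U).left) := fun i =>
    (Spec.map (CommRingCat.ofHom (Pi.evalRingHom (fun _ : Fin n => D) i)) ≫ Spec.map εc.hom) ≫ e.hom
  refine ⟨⟨n, σ, fun i => ?_, fun i => ?_, fun i j hij a b h => ?_, fun x => ?_⟩⟩
  · show ((Spec.map _ ≫ Spec.map εc.hom) ≫ e.hom) ≫ pullback.fst U.hom f = _
    rw [Category.assoc, he, Category.assoc, ← Spec.map_comp, ← Spec.map_comp]
    refine Eq.trans (congrArg Spec.map ?_) (Spec.map_id (CommRingCat.of D))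
    refine (CommRingCat.hom_ext (RingHom.ext fun d => ?_))
    exact congrFun (β.commutes d) i
  · haveI : IsOpenImmersion (Spec.map (CommRingCat.ofHom (Pi.evalRingHom (fun _ : Fin n => D) i))) :=
      inferInstance
    exact IsOpenImmersion.comp (Spec.map _ ≫ Spec.map εc.hom) e.hom
  · have h' : Spec.map (CommRingCat.ofHom (Pi.evalRingHom (fun _ : Fin n => D) i)) a =
        Spec.map (CommRingCat.ofHom (Pi.evalRingHom (fun _ : Fin n => D) j)) b :=
      (Scheme.homeoOfIso (asIso (Spec.map εc.hom) ≪≫ e)).injective h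
    have h1 : (Pi.single j 1 : Fin n → D) ∈
        (PrimeSpectrum.comap (Pi.evalRingHom (fun _ : Fin n => D) i) a).asIdeal := by
      show (Pi.single j 1 : Fin n → D) i ∈ a.asIdeal
      rw [Pi.single_eq_of_ne hij]
      exact a.asIdeal.zero_mem
    rw [show PrimeSpectrum.comap (Pi.evalRingHom (fun _ : Fin n => D) i) a =
      PrimeSpectrum.comap (Pi.evalRingHom (fun _ : Fin n => D) j) b from h'] at h1
    have h2 : (Pi.single j (1 : D) : Fin n → D) j ∈ b.asIdeal := h1
    rw [Pi.single_eq_same] at h2
    exact b.isPrime.ne_top ((Ideal.eq_top_iff_one _).2 h2)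
  · obtain ⟨y, hy⟩ := (Scheme.homeoOfIso (asIso (Spec.map εc.hom) ≪≫ e)).surjective x
    obtain ⟨i, z, hz⟩ := PrimeSpectrum.exists_comap_evalRingHom_eq (R := fun _ : Fin n => D) y
    refine ⟨i, z, ?_⟩
    refine Eq.trans ?_ hy
    show ((Spec.map (CommRingCat.ofHom (Pi.evalRingHom (fun _ : Fin n => D) i)) ≫ Spec.map εc.hom) ≫ e.hom) z = _
    refine Eq.trans ?_ (congrArg (Spec.map εc.hom ≫ e.hom) hz)
    rfl

/-- The test objects over which the base change splits. -/
abbrev splitObj : ObjectProperty (Over X) := fun T => Nonempty (Splitting f T)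

instance isCoverDense_splitObj : (splitObj f).ι.IsCoverDense (QuotSh.J Scheme.fppfPrecoverage X) := by
  refine ⟨fun T => ?_⟩
  have key : ∀ (V : Over X) [IsAffine V.left] (h : V ⟶ T),
      (Sieve.overEquiv T (Sieve.coverByImage (splitObj f).ι T)).pullback h.left ∈
        Scheme.fppfPrecoverage.toGrothendieck V.left := by
    intro V _ h
    choose U g hflat hlfp haff hp hs using exists_splitting_nhd f V
    refine GrothendieckTopology.superset_covering _ ?_
      (Precoverage.generate_mem_toGrothendieck (J := Scheme.precoverage (@Flat ⊓ @LocallyOfFinitePresentation))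
        (show Presieve.ofArrows (fun p => (U p).left) (fun p => (g p).left) ∈ _ from ?_))
    · rw [Sieve.generate_le_iff]
      rintro W k ⟨p⟩
      refine (Sieve.overEquiv_iff _ _).2 ?_
      exact ⟨{ obj := ⟨U p, hs p⟩
               lift := Over.homMk (𝟙 _) (by
                 show 𝟙 _ ≫ (U p).hom = ((g p).left ≫ h.left) ≫ T.hom
                 rw [Category.id_comp, Category.assoc, Over.w h, Over.w (g p)])
               map := g p ≫ h
               fac := Over.OverMorphism.ext (Category.id_comp _) }⟩
    · rw [Scheme.ofArrows_mem_precoverage_iff]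
      exact ⟨fun p => ⟨p, hp p⟩, fun p => ⟨hflat p, hlfp p⟩⟩
  show Sieve.overEquiv T _ ∈ Scheme.fppfPrecoverage.toGrothendieck T.left
  refine GrothendieckTopology.transitive _
    (Precoverage.toGrothendieck_mono Scheme.zariskiPrecoverage_le_fppfPrecoverage _
      T.left.affineCover.mem_grothendieckTopology) _ fun W k hk => ?_
  obtain ⟨Z, a, b, ⟨i⟩, rfl⟩ := hk
  rw [Sieve.pullback_comp]
  refine GrothendieckTopology.pullback_stable _ _ ?_
  haveI : IsAffine (Over.mk (T.left.affineCover.f i ≫ T.hom) : Over X).left :=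
    inferInstanceAs (IsAffine (T.left.affineCover.X i))
  exact key (Over.mk (T.left.affineCover.f i ≫ T.hom)) (Over.homMk (T.left.affineCover.f i))

end Groth.Agent.DualNorm79
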